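import Groth.Agent.H28.KRRPush
import Groth.Agent.Synt29.SmoothReg
import Groth.Prelude.Def_BlowUp2
import Mathlib.RingTheory.DiscreteValuationRing.TFAE

/-! The fibre of an effective Cartier section has a discrete valuation ring at the section. -/

universe u

open CategoryTheory AlgebraicGeometry IsLocalRing

namespace Groth.Agent.SecFib7

variable {A B C : Type*} [CommRing A] [IsLocalRing A] [CommRing B] [IsLocalRing B] [CommRing C]

/-- A quotient of a noetherian local ring with principal non-nilpotent maximal ideal. -/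
theorem isDomain_of_principal {Q : Type*} [CommRing Q] [IsLocalRing Q] [IsNoetherianRing Q] {t : Q}
    (hm : maximalIdeal Q = Ideal.span {t}) (ht : ¬ IsNilpotent t) :
    ∃ _ : IsDomain Q, IsDiscreteValuationRing Q := by
  have key : ∀ x : Q, x ≠ 0 → ∃ (n : ℕ) (v : Q), IsUnit v ∧ x = t ^ n * v := by
    intro x hx
    classical
    have hex : ∃ n, x ∉ maximalIdeal Q ^ (n + 1) := by
      by_contra h
      push Not at h
      have : x ∈ ⨅ i : ℕ, maximalIdeal Q ^ i := Ideal.mem_iInf.2 fun i => by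
        cases i with
        | zero => simp
        | succ i => exact h i
      rw [Ideal.iInf_pow_eq_bot_of_isLocalRing _ (maximalIdeal.isMaximal Q).ne_top] at this
      exact hx this
    obtain ⟨n, hn0, hn⟩ : ∃ n, x ∈ maximalIdeal Q ^ n ∧ x ∉ maximalIdeal Q ^ (n + 1) := by
      refine ⟨Nat.find hex, ?_, Nat.find_spec hex⟩
      rcases h0 : Nat.find hex with _ | m
      · simp
      · by_contra h
        exact Nat.find_min hex (show m < Nat.find hex by omega) h
    rw [hm, Ideal.span_singleton_pow, Ideal.mem_span_singleton] at hn0 hn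
    obtain ⟨v, hv⟩ := hn0
    refine ⟨_, v, by_contra fun hv' => hn ?_, hv⟩
    obtain ⟨w, hw⟩ := Ideal.mem_span_singleton.1 (hm ▸ (mem_maximalIdeal v).2 hv')
    exact ⟨w, by rw [hv, hw, pow_succ, mul_assoc]⟩
  haveI : NoZeroDivisors Q := ⟨fun {a b} hab => by
    by_contra h
    push Not at h
    obtain ⟨n, v, hv, rfl⟩ := key a h.1
    obtain ⟨m, w, hw, rfl⟩ := key b h.2
    refine ht ⟨n + m, (hv.mul hw).mul_left_eq_zero.1 ?_⟩
    rw [← hab]; ring⟩
  haveI : IsDomain Q := NoZeroDivisors.to_isDomain Q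
  have hnf : ¬ IsField Q := fun hF => ht ⟨1, by
    have := IsLocalRing.isField_iff_maximalIdeal_eq.1 hF
    rw [hm, Ideal.span_singleton_eq_bot] at this
    rw [this, pow_one]⟩
  have h04 : IsDiscreteValuationRing Q ↔ (maximalIdeal Q).IsPrincipal :=
    (IsDiscreteValuationRing.TFAE Q hnf).out 0 4
  exact ⟨inferInstance, h04.2 ⟨⟨t, hm⟩⟩⟩

theorem exists_dvr [IsLocalRing C] (φ : A →+* B) [IsLocalHom φ] (ψ : B →+* C) [IsLocalHom ψ]
    (hbij : Function.Bijective (ψ.comp φ)) {t : B} (htr : t ∈ nonZeroDivisors B) (htu : ¬ IsUnit t)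
    (hker : RingHom.ker ψ = Ideal.span {t}) {Q : Type*} [CommRing Q] [IsNoetherianRing Q]
    (e : Q ≃+* B ⧸ (maximalIdeal A).map φ) :
    ∃ _ : IsDomain Q, IsDiscreteValuationRing Q := by
  set I := (maximalIdeal A).map φ with hI
  have hIm : I ≤ maximalIdeal B := Ideal.map_le_iff_le_comap.2 fun a ha =>
    (mem_maximalIdeal _).2 fun h => ha ((isUnit_map_iff φ a).1 h)
  have hdec : ∀ b : B, ∃ a w, b = φ a + t * w := fun b => by
    obtain ⟨a, ha⟩ := hbij.2 (ψ b)
    have : b - φ a ∈ RingHom.ker ψ := by rw [RingHom.mem_ker, map_sub, ← ha, RingHom.comp_apply, sub_self]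
    rw [hker, Ideal.mem_span_singleton] at this
    obtain ⟨w, hw⟩ := this
    exact ⟨a, w, by rw [← hw]; ring⟩
  have ht0 : ψ t = 0 := by
    rw [← RingHom.mem_ker, hker]; exact Ideal.mem_span_singleton_self t
  have hdecI : ∀ z ∈ I, ∃ a ∈ maximalIdeal A, ∃ w ∈ I, z = φ a + t * w := by
    intro z hz
    rw [hI, Ideal.map] at hz
    induction hz using Submodule.span_induction with
    | mem x hx =>
      obtain ⟨a, ha, rfl⟩ := hx
      exact ⟨a, ha, 0, zero_mem _, by ring⟩
    | zero => exact ⟨0, zero_mem _, 0, zero_mem _, by simp⟩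
    | add x y _ _ hx hy =>
      obtain ⟨a, ha, w, hw, rfl⟩ := hx
      obtain ⟨a', ha', w', hw', rfl⟩ := hy
      exact ⟨a + a', add_mem ha ha', w + w', add_mem hw hw', by rw [map_add]; ring⟩
    | smul r x _ hx =>
      obtain ⟨a, ha, w, hw, rfl⟩ := hx
      obtain ⟨c, v, rfl⟩ := hdec r
      refine ⟨c * a, Ideal.mul_mem_left _ c ha, φ c * w + v * φ a + v * t * w,
        add_mem (add_mem (Ideal.mul_mem_left _ _ hw) (Ideal.mul_mem_left _ _ (Ideal.mem_map_of_mem φ ha)))
          (Ideal.mul_mem_left _ _ hw), ?_⟩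
      rw [smul_eq_mul, map_mul]; ring
  have hpow : ∀ n : ℕ, t ^ n ∉ I := by
    intro n
    induction n with
    | zero => exact fun h => (maximalIdeal.isMaximal B).ne_top ((Ideal.eq_top_iff_one _).2 (hIm (pow_zero t ▸ h)))
    | succ n ih =>
      intro h
      obtain ⟨a, -, w, hw, he⟩ := hdecI _ h
      have : ψ.comp φ a = ψ.comp φ 0 := by
        have h1 := congrArg ψ he
        rw [map_pow, ht0, zero_pow n.succ_ne_zero, map_add, map_mul, ht0, zero_mul, add_zero] at h1
        rw [map_zero, RingHom.comp_apply, ← h1]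
      rw [hbij.1 this, map_zero, zero_add, pow_succ'] at he
      exact ih ((mul_cancel_left_mem_nonZeroDivisors htr).1 he ▸ hw)
  have hItop : I ≠ ⊤ := fun h => (maximalIdeal.isMaximal B).ne_top (top_le_iff.1 (h ▸ hIm))
  haveI : Nontrivial (B ⧸ I) := Ideal.Quotient.nontrivial_iff.2 hItop
  haveI : IsLocalRing (B ⧸ I) := .of_surjective' _ Ideal.Quotient.mk_surjective
  haveI : IsNoetherianRing (B ⧸ I) := isNoetherianRing_of_ringEquiv Q e
  have hm : maximalIdeal (B ⧸ I) = Ideal.span {Ideal.Quotient.mk I t} := by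
    refine le_antisymm (fun z hz => ?_) ((Ideal.span_singleton_le_iff_mem _).2 ?_)
    · obtain ⟨b, rfl⟩ := Ideal.Quotient.mk_surjective z
      have hb : ¬ IsUnit b := fun h => hz (h.map _)
      obtain ⟨a, w, rfl⟩ := hdec b
      have ha : ¬ IsUnit a := fun h => hb (by
        have h1 : IsUnit (ψ (φ a + t * w)) := by
          rw [map_add, map_mul, ht0, zero_mul, add_zero]; exact (h.map φ).map ψ
        exact (isUnit_map_iff ψ _).1 h1)
      rw [map_add, Ideal.Quotient.eq_zero_iff_mem.2 (Ideal.mem_map_of_mem φ ((mem_maximalIdeal a).2 ha)),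
        zero_add, map_mul]
      exact Ideal.mul_mem_right _ _ (Ideal.mem_span_singleton_self _)
    · refine (mem_maximalIdeal _).2 fun h => ?_
      obtain ⟨c, hc⟩ := h.exists_right_inv
      obtain ⟨c, rfl⟩ := Ideal.Quotient.mk_surjective c
      rw [← map_mul, ← map_one (Ideal.Quotient.mk I), Ideal.Quotient.eq] at hc
      have h2 := Ideal.sub_mem _ (Ideal.mul_mem_right c _ ((mem_maximalIdeal t).2 htu)) (hIm hc)
      rw [sub_sub_cancel] at h2
      exact (mem_maximalIdeal _).1 h2 isUnit_one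
  obtain ⟨hd, hv⟩ := isDomain_of_principal hm fun ⟨n, hn⟩ => hpow n (by
    rwa [← map_pow, Ideal.Quotient.eq_zero_iff_mem] at hn)
  haveI : IsDomain Q := MulEquiv.isDomain (B ⧸ I) e.toMulEquiv
  exact ⟨inferInstance, IsDiscreteValuationRing.RingEquivClass.isDiscreteValuationRing e.symm⟩

/-- The fibre through a point of an effective Cartier section. -/
theorem exists_fibre_dvr {X V : Scheme.{u}} (π : V ⟶ X) [LocallyOfFiniteType π]
    (j : X ⟶ V) [IsClosedImmersion j] (hj : j ≫ π = 𝟙 X) (hJ : BlowUp.IsEffCartierIdeal j.ker) (x : X) :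
    ∃ _ : IsDomain ((π.fiber (π (j x))).presheaf.stalk (π.asFiber (j x))),
      IsDiscreteValuationRing ((π.fiber (π (j x))).presheaf.stalk (π.asFiber (j x))) := by
  obtain ⟨e⟩ := Synt29.SmoothReg.exists_fiber_stalk_equiv π (j x)
  haveI : IsLocallyNoetherian (π.fiber (π (j x))) :=
    LocallyOfFiniteType.isLocallyNoetherian (π.fiberToSpecResidueField (π (j x)))
  haveI : IsIso (j ≫ π) := by rw [hj]; infer_instance
  obtain ⟨⟨U, hU⟩, hxU, f, hf, hI⟩ := hJ (j x)
  letI := QCoh.stalkAlg (X := V) hxU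
  haveI := QCoh.isLocalization_stalk' hU hxU
  have htr : algebraMap Γ(V, U) (V.presheaf.stalk (j x)) f ∈ nonZeroDivisors (V.presheaf.stalk (j x)) :=
    IsLocalization.map_nonZeroDivisors_le (hU.primeIdealOf ⟨j x, hxU⟩).asIdeal.primeCompl _
      (Submonoid.mem_map_of_mem _ hf)
  have hker : RingHom.ker (j.stalkMap x).hom =
      Ideal.span {algebraMap Γ(V, U) (V.presheaf.stalk (j x)) f} := by
    rw [H28.KRRPush.ker_stalkMap j x hU hxU, hI, Ideal.map_span, Set.image_singleton]
    rfl
  refine exists_dvr (π.stalkMap (j x)).hom (j.stalkMap x).hom ?_ htr ?_ hker e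
  · have h : Function.Bijective (((j ≫ π).stalkMap x).hom) :=
      (ConcreteCategory.isIso_iff_bijective ((j ≫ π).stalkMap x)).1 inferInstance
    rwa [Scheme.Hom.stalkMap_comp] at h
  · intro h
    have h2 : algebraMap Γ(V, U) (V.presheaf.stalk (j x)) f ∈ RingHom.ker (j.stalkMap x).hom :=
      hker ▸ Ideal.mem_span_singleton_self _
    have h3 := h.map (j.stalkMap x).hom
    rw [RingHom.mem_ker.1 h2] at h3
    exact not_isUnit_zero h3

end Groth.Agent.SecFib7
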